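import Groth.Agent.Lib.CubeField.Simple
import Groth.Agent.Lib.AVDegree22.MulDeg
import Groth.Agent.Lib.TopDimLib.Basic
import Groth.Agent.Lib.VarDim.Scheme
import Mathlib.Data.Set.Card.Arithmetic

/-!
# Torsion points of prime power order are dense
-/

universe u

open CategoryTheory Limits MonoidalCategory CartesianMonoidalCategory AlgebraicGeometry TopologicalSpace
open scoped MonObj GrpObj
open Groth.Agent.CubeField

set_option linter.style.haveILetI false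
set_option backward.isDefEq.respectTransparency false

namespace Groth.Agent.AlgEquiv22

variable {k : Type u} [Field k] [IsAlgClosed k] {A : Over (Spec (CommRingCat.of k))} [GrpObj A]
  [IsCommMonObj A] [IsProper A.hom] [GeometricallyIntegral A.hom]

/-- In a closed set stable under differences, the differences from an irreducible piece lie in an irreducible piece
through the origin. -/
theorem exists_irreducible_div {S : Set A.left} (hSc : IsClosed S)
    (hSmul : ∀ a b : 𝟙_ (Over (Spec (CommRingCat.of k))) ⟶ A, rpt a ∈ S → rpt b ∈ S → rpt (a * b⁻¹) ∈ S)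
    {W : Set A.left} (hWc : IsClosed W) (hWi : IsIrreducible W) (hWS : W ⊆ S) :
    ∃ R : Set A.left, IsIrreducible R ∧ R ⊆ S ∧ rpt (1 : 𝟙_ (Over (Spec (CommRingCat.of k))) ⟶ A) ∈ R ∧
      (∀ a b : 𝟙_ (Over (Spec (CommRingCat.of k))) ⟶ A, rpt a ∈ W → rpt b ∈ W → rpt (a * b⁻¹) ∈ R) ∧
      (rpt (1 : 𝟙_ (Over (Spec (CommRingCat.of k))) ⟶ A) ∈ W → W ⊆ R) := by
  haveI : JacobsonSpace A.left := LocallyOfFiniteType.jacobsonSpace A.hom
  obtain ⟨B, hBi, hBp, hBG, i, hBc, hrange, -⟩ := exists_subvariety hWc hWi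
  haveI := hBi
  haveI := hBp
  haveI := hBG
  haveI := hBc
  haveI : IsLocallyNoetherian B.left := LocallyOfFiniteType.isLocallyNoetherian B.hom
  haveI : IsIntegral (B ⊗ B).left :=
    GeometricallyIntegral.isIntegral_of_isLocallyNoetherian (pullback.fst B.hom B.hom)
  haveI : LocallyOfFiniteType (B ⊗ B).hom :=
    inferInstanceAs (LocallyOfFiniteType (pullback.fst B.hom B.hom ≫ B.hom))
  haveI : JacobsonSpace (B ⊗ B).left := LocallyOfFiniteType.jacobsonSpace (B ⊗ B).hom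
  let φ : B ⊗ B ⟶ A := (fst B B ≫ i) * (snd B B ≫ i)⁻¹
  have hmem : ∀ c : 𝟙_ (Over (Spec (CommRingCat.of k))) ⟶ B, rpt (c ≫ i) ∈ W := fun c => by
    rw [rpt_comp, ← hrange]; exact ⟨_, rfl⟩
  have hlift : ∀ c : 𝟙_ (Over (Spec (CommRingCat.of k))) ⟶ A, rpt c ∈ W → ∃ c', c' ≫ i = c :=
    fun c hc => exists_point_lift i c (hrange.ge hc)
  have hval : ∀ a b : 𝟙_ (Over (Spec (CommRingCat.of k))) ⟶ B, rpt ((a ≫ i) * (b ≫ i)⁻¹) ∈ Set.range φ.left := by
    intro a b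
    refine ⟨rpt (lift a b), ?_⟩
    rw [← rpt_comp, MonObj.comp_mul, GrpObj.comp_inv, lift_fst_assoc, lift_snd_assoc]
  refine ⟨Set.range φ.left, ?_, ?_, ?_, ?_, ?_⟩
  · rw [← Set.image_univ]
    exact (IrreducibleSpace.isIrreducible_univ _).image _ φ.left.continuous.continuousOn
  · rintro _ ⟨w, rfl⟩
    have : closedPoints (B ⊗ B).left ⊆ φ.left ⁻¹' S := fun z hz => by
      obtain ⟨p, rfl⟩ := exists_rpt hz
      rw [Set.mem_preimage, ← rpt_comp, MonObj.comp_mul, GrpObj.comp_inv, ← Category.assoc, ← Category.assoc]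
      exact hSmul _ _ (hWS (hmem _)) (hWS (hmem _))
    exact (closure_minimal this (hSc.preimage φ.left.continuous)) (by rw [closure_closedPoints]; trivial)
  · obtain ⟨z, hz, hzc⟩ := nonempty_inter_closedPoints (Z := W) hWi.nonempty hWc.isLocallyClosed
    obtain ⟨c, rfl⟩ := exists_rpt hzc
    obtain ⟨c', rfl⟩ := hlift c hz
    simpa using hval c' c'
  · intro a b ha hb
    obtain ⟨a', rfl⟩ := hlift a ha
    obtain ⟨b', rfl⟩ := hlift b hb
    exact hval a' b'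
  · intro h1 v hv
    obtain ⟨o', ho⟩ := hlift 1 h1
    obtain ⟨z, rfl⟩ := hrange.ge hv
    refine ⟨(lift (𝟙 B) (toUnit B ≫ o')).left z, ?_⟩
    rw [← Scheme.Hom.comp_apply, ← Over.comp_left, MonObj.comp_mul, GrpObj.comp_inv, lift_fst_assoc,
      lift_snd_assoc, Category.id_comp, Category.assoc, ho, MonObj.comp_one, inv_one, mul_one]

set_option maxHeartbeats 800000 in
/-- Torsion points of `l`-power order are dense. -/
theorem dense_primePowTorsion {l : ℕ} (hl1 : 1 < l) (hl : (l : k) ≠ 0) :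
    closure (rpt '' {a : 𝟙_ (Over (Spec (CommRingCat.of k))) ⟶ A | ∃ n : ℕ, a ^ (l ^ n) = 1}) = Set.univ := by
  classical
  haveI : CompactSpace A.left := QuasiCompact.compactSpace_of_compactSpace A.hom
  haveI : JacobsonSpace A.left := LocallyOfFiniteType.jacobsonSpace A.hom
  haveI : IsLocallyNoetherian A.left := LocallyOfFiniteType.isLocallyNoetherian A.hom
  haveI : AlgebraicGeometry.IsNoetherian A.left := {}
  haveI : IsIntegral A.left := GeometricallyIntegral.isIntegral_of_subsingleton A.hom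
  set H := {a : 𝟙_ (Over (Spec (CommRingCat.of k))) ⟶ A | ∃ n : ℕ, a ^ (l ^ n) = 1} with hH
  have hdivH : ∀ a ∈ H, ∀ b ∈ H, a * b⁻¹ ∈ H := by
    rintro a ⟨n, hn⟩ b ⟨m, hm⟩
    refine ⟨n + m, ?_⟩
    rw [mul_pow, inv_pow, pow_add, pow_mul, hn, one_pow, one_mul, mul_comm, pow_mul, hm, one_pow, inv_one]
  have h1H : (1 : 𝟙_ (Over (Spec (CommRingCat.of k))) ⟶ A) ∈ H := ⟨0, one_pow _⟩
  set S : Set A.left := closure (rpt '' H) with hS
  have hSc : IsClosed S := isClosed_closure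
  have hSmul : ∀ a b : 𝟙_ (Over (Spec (CommRingCat.of k))) ⟶ A, rpt a ∈ S → rpt b ∈ S → rpt (a * b⁻¹) ∈ S := by
    have step : ∀ b ∈ H, ∀ a : 𝟙_ (Over (Spec (CommRingCat.of k))) ⟶ A, rpt a ∈ S → rpt (a * b⁻¹) ∈ S :=
      fun b hb a ha => by
        rw [← trans₁_rpt]
        exact closure_minimal (by
          rintro _ ⟨c, hc, rfl⟩
          show (trans₁ b⁻¹).left (rpt c) ∈ S
          rw [trans₁_rpt]
          exact subset_closure ⟨_, hdivH c hc b hb, rfl⟩) (hSc.preimage (Scheme.Hom.continuous (trans₁ b⁻¹).left)) ha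
    intro a b ha hb
    have hc : IsClosed (((toUnit A ≫ a) * (𝟙 A)⁻¹ : A ⟶ A).left ⁻¹' S) := hSc.preimage (Scheme.Hom.continuous _)
    have h := closure_minimal (by
      rintro _ ⟨c, hc, rfl⟩
      show ((toUnit A ≫ a) * (𝟙 A)⁻¹ : A ⟶ A).left (rpt c) ∈ S
      rw [← rpt_comp, MonObj.comp_mul, GrpObj.comp_inv, Category.comp_id, comp_toUnit_assoc, toUnit_unit,
        Category.id_comp]
      exact step c hc a ha) hc hb
    rwa [Set.mem_preimage, ← rpt_comp, MonObj.comp_mul, GrpObj.comp_inv, Category.comp_id, comp_toUnit_assoc,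
      toUnit_unit, Category.id_comp] at h
  by_contra hne
  obtain ⟨𝒮, h𝒮f, h𝒮c, h𝒮i, h𝒮eq⟩ := NoetherianSpace.exists_finite_set_isClosed_irreducible hSc
  let 𝒯 := {T ∈ 𝒮 | ∀ T' ∈ 𝒮, T ⊆ T' → T' ⊆ T}
  have hle : ∀ W : Set A.left, IsIrreducible W → W ⊆ S → ∃ T ∈ 𝒯, W ⊆ T := by
    intro W hW hWS
    obtain ⟨T, hT, hWT⟩ := isIrreducible_iff_sUnion_isClosed.1 hW h𝒮f.toFinset
      (fun T hT => h𝒮c T (h𝒮f.mem_toFinset.1 hT)) (by rw [h𝒮f.coe_toFinset, ← h𝒮eq]; exact hWS)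
    obtain ⟨T', ⟨hT', hTT'⟩, hmax⟩ := (h𝒮f.inter_of_left {T' | T ⊆ T'}).exists_maximal
      ⟨T, h𝒮f.mem_toFinset.1 hT, Set.Subset.refl T⟩
    exact ⟨T', ⟨hT', fun R hR hle => hmax ⟨hR, hTT'.trans hle⟩ hle⟩, hWT.trans hTT'⟩
  obtain ⟨g, hg⟩ : ∃ g : ℕ, topologicalKrullDim A.left = g := ⟨_, VarDim.dim_eq_sdim_genericPoint A.hom⟩
  let tors : ℕ → Set (𝟙_ (Over (Spec (CommRingCat.of k))) ⟶ A) := fun n => {a | a ^ (l ^ n) = 1}
  have hcardA : ∀ n, (tors n).ncard = (l ^ n) ^ (2 * g) := fun n =>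
    AVDegree22.card_torsPts A hg (by rw [Nat.cast_pow]; exact pow_ne_zero _ hl)
  have hfinA : ∀ n, (tors n).Finite := fun n => Set.finite_of_ncard_ne_zero (by
    rw [hcardA]; exact pow_ne_zero _ (pow_ne_zero _ (by omega)))
  let M := {T ∈ 𝒯 | rpt (1 : 𝟙_ (Over (Spec (CommRingCat.of k))) ⟶ A) ∈ T}
  have hMf : M.Finite := h𝒮f.subset fun T hT => hT.1.1
  have hsmall : ∀ T ∈ M, ∃ d, d + 1 ≤ g ∧ ∀ n, (tors n ∩ {a | rpt a ∈ T}).ncard ≤ (l ^ n) ^ (2 * d) := by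
    rintro T ⟨⟨hT, hTmax⟩, h1T⟩
    have hTS : T ⊆ S := h𝒮eq ▸ Set.subset_sUnion_of_mem hT
    obtain ⟨R, hRi, hRS, -, hRdiv, hTR⟩ := exists_irreducible_div hSc hSmul (h𝒮c T hT) (h𝒮i T hT) hTS
    obtain ⟨T', hT', hRT'⟩ := hle R hRi hRS
    have hRT : R ⊆ T := hRT'.trans (hTmax T' hT'.1 ((hTR h1T).trans hRT'))
    obtain ⟨B, gB, hBg, i, hi, hci, hrange⟩ := exists_subgroup_of_isClosed (h𝒮c T hT) (h𝒮i T hT) h1T
      fun a b ha hb => hRT (hRdiv a b ha hb)
    haveI := hBg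
    haveI := hi
    haveI := hci
    haveI : IsProper B.hom := by rw [← Over.w i]; infer_instance
    haveI := isCommMonObj_of_isProper_of_geometricallyIntegral B
    haveI : IsIntegral B.left := GeometricallyIntegral.isIntegral_of_subsingleton B.hom
    obtain ⟨d, hd⟩ : ∃ d : ℕ, topologicalKrullDim B.left = d := ⟨_, VarDim.dim_eq_sdim_genericPoint B.hom⟩
    have hlt : topologicalKrullDim T < (g : WithBot ℕ∞) := by
      rw [← hg]
      exact TopDimLib.dim_lt_of_closed_ssubset (by rw [hg]; exact WithBot.coe_injective.ne (ENat.natCast_ne_top g)) T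
        (h𝒮c T hT) fun h => hne (Set.eq_univ_of_univ_subset (h.ge.trans hTS))
    have hdT : topologicalKrullDim T = d := by
      rw [← hd]
      let he := i.left.isEmbedding.toHomeomorph
      rw [IsHomeomorph.topologicalKrullDim_eq he he.isHomeomorph]
      exact congrArg (fun Z : Set A.left => topologicalKrullDim Z) hrange.symm
    rw [hdT, Nat.cast_lt] at hlt
    refine ⟨d, hlt, fun n => ?_⟩
    have hcardB : ({b : 𝟙_ (Over (Spec (CommRingCat.of k))) ⟶ B | b ^ (l ^ n) = 1}).ncard = (l ^ n) ^ (2 * d) :=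
      AVDegree22.card_torsPts B hd (by rw [Nat.cast_pow]; exact pow_ne_zero _ hl)
    have hfinB : ({b : 𝟙_ (Over (Spec (CommRingCat.of k))) ⟶ B | b ^ (l ^ n) = 1}).Finite :=
      Set.finite_of_ncard_ne_zero (by rw [hcardB]; exact pow_ne_zero _ (pow_ne_zero _ (by omega)))
    rw [← hcardB]
    refine le_trans (Set.ncard_le_ncard ?_ (hfinB.image fun b => b ≫ i)) (Set.ncard_image_le hfinB)
    rintro a ⟨ha, haT⟩
    obtain ⟨a', rfl⟩ := exists_point_lift i a (hrange.ge haT)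
    refine ⟨a', ?_, rfl⟩
    haveI : Mono i := (Over.forget _).mono_of_mono_map (f := i) (show Mono i.left from inferInstance)
    refine (cancel_mono i).1 ?_
    rw [TateTors22.map_pow, MonObj.one_comp]
    exact ha
  choose d hdg hd using hsmall
  set C := h𝒮f.toFinset.card * hMf.toFinset.card
  have hbound : ∀ n, 0 < n → (l ^ n) ^ (2 * g) ≤ C * (l ^ n) ^ (2 * (g - 1)) := by
    intro n _
    rw [← hcardA n]
    have hcov : tors n ⊆ ⋃ W ∈ h𝒮f.toFinset, tors n ∩ {a | rpt a ∈ W} := fun a ha => by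
      have : rpt a ∈ S := subset_closure ⟨a, ⟨n, ha⟩, rfl⟩
      rw [h𝒮eq] at this
      obtain ⟨W, hW, haW⟩ := this
      exact Set.mem_biUnion (h𝒮f.mem_toFinset.2 hW) ⟨ha, haW⟩
    refine (Set.ncard_le_ncard hcov ((hfinA n).subset (Set.iUnion₂_subset fun _ _ => Set.inter_subset_left))).trans
      ((Finset.set_ncard_biUnion_le _ _).trans ?_)
    rw [show C * (l ^ n) ^ (2 * (g - 1)) = h𝒮f.toFinset.card • (hMf.toFinset.card * (l ^ n) ^ (2 * (g - 1))) by
      simp only [C, smul_eq_mul, Nat.mul_assoc], ← Finset.sum_const]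
    refine Finset.sum_le_sum fun W hW => ?_
    rw [h𝒮f.mem_toFinset] at hW
    rcases Set.eq_empty_or_nonempty (tors n ∩ {a | rpt a ∈ W}) with he | ⟨b, hb, hbW⟩
    · rw [he, Set.ncard_empty]; exact Nat.zero_le _
    obtain ⟨R, hRi, hRS, h1R, hRdiv, -⟩ := exists_irreducible_div hSc hSmul (h𝒮c W hW) (h𝒮i W hW)
      (h𝒮eq ▸ Set.subset_sUnion_of_mem hW)
    obtain ⟨T, hT, hRT⟩ := hle R hRi hRS
    have hTM : T ∈ M := ⟨hT, hRT h1R⟩
    calc (tors n ∩ {a | rpt a ∈ W}).ncard = ((fun a => a * b⁻¹) '' (tors n ∩ {a | rpt a ∈ W})).ncard :=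
          (Set.ncard_image_of_injective _ (mul_left_injective _)).symm
      _ ≤ (tors n ∩ {a | rpt a ∈ T}).ncard := by
          refine Set.ncard_le_ncard ?_ ((hfinA n).subset Set.inter_subset_left)
          rintro _ ⟨a, ⟨ha, haW⟩, rfl⟩
          refine ⟨?_, hRT (hRdiv a b haW hbW)⟩
          show (a * b⁻¹) ^ (l ^ n) = 1
          rw [mul_pow, inv_pow, show a ^ (l ^ n) = 1 from ha, show b ^ (l ^ n) = 1 from hb, inv_one, mul_one]
      _ ≤ (l ^ n) ^ (2 * d T hTM) := hd T hTM n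
      _ ≤ (l ^ n) ^ (2 * (g - 1)) := Nat.pow_le_pow_right (Nat.one_le_pow _ _ (by omega)) (by
          have := hdg T hTM; omega)
      _ ≤ _ := Nat.le_mul_of_pos_left _ (Finset.card_pos.2 ⟨T, hMf.mem_toFinset.2 hTM⟩)
  obtain ⟨T₀, hT₀, h1T₀⟩ : ∃ T ∈ 𝒮, rpt (1 : 𝟙_ (Over (Spec (CommRingCat.of k))) ⟶ A) ∈ T := by
    have : rpt (1 : 𝟙_ (Over (Spec (CommRingCat.of k))) ⟶ A) ∈ ⋃₀ 𝒮 := h𝒮eq ▸ subset_closure ⟨1, h1H, rfl⟩
    exact this
  obtain ⟨R, hRi, hRS, h1R, -⟩ := exists_irreducible_div hSc hSmul (h𝒮c T₀ hT₀) (h𝒮i T₀ hT₀)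
    (h𝒮eq ▸ Set.subset_sUnion_of_mem hT₀)
  obtain ⟨T, hT, hRT⟩ := hle R hRi hRS
  have hg1 : 1 ≤ g := le_trans (Nat.le_add_left 1 _) (hdg T ⟨hT, hRT h1R⟩)
  have hbd := hbound (C + 1) C.succ_pos
  rw [show 2 * g = 2 * (g - 1) + 2 by omega, pow_add, Nat.mul_comm] at hbd
  have hle2 := Nat.le_of_mul_le_mul_right hbd (pow_pos (pow_pos (by omega) _) _)
  have h3 : C + 1 < l ^ (C + 1) := Nat.lt_pow_self hl1
  have h4 : l ^ (C + 1) ≤ (l ^ (C + 1)) ^ 2 := Nat.le_self_pow two_ne_zero _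
  omega

end Groth.Agent.AlgEquiv22
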