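import Groth.Agent.Lib.AlgEquiv22.Basic
import Groth.Agent.Lib.CubeField.MulSurj
import Groth.Agent.Lib.AmpleFin18.Surj
import Groth.Agent.Lib.Ample18.Sections
import Groth.Agent.Lib.TateTors22.DegForm

/-!
# An additive class does not affect ampleness and has degree zero on curves
-/

universe u

open CategoryTheory Limits MonoidalCategory CartesianMonoidalCategory AlgebraicGeometry TopologicalSpace
open scoped MonObj GrpObj

set_option linter.style.haveILetI false
set_option backward.isDefEq.respectTransparency false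

namespace Groth.Agent.AlgEquiv22

noncomputable local instance instLawAEA (Y : Scheme.{u}) : PicGrp.Law Y := M2.law Y

/-- A high power of an ample module makes any invertible module ample. -/
theorem exists_isAmple_tensorPow_tensor {X : Scheme.{u}} {L N : X.Modules} (hL : CohB1.IsAmple L)
    (hN : PicF.IsInvertible N) : ∃ m : ℕ, 0 < m ∧ CohB1.IsAmple (CohB1.tensorMod (CohB1.tensorPow L m) N) := by
  classical
  haveI : CompactSpace X := hL.2.1
  haveI : QuasiSeparatedSpace X := Amp.quasiSeparatedSpace_of_isAmple hL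
  haveI : Coh.IsQCoh N := M2.isQCoh_of_isFinLocFree (M2.isFinLocFree_of_isInvertible hN)
  have key : ∀ x : X, ∃ (d : ℕ) (G : X.Opens) (n₀ : ℕ), 0 < d ∧ x ∈ G ∧ ∀ n, n₀ ≤ n →
      ∀ y ∈ G, ∃ σ : Coh.structureModule X ⟶ CohB1.tensorMod N (CohB1.tensorPow L (d * n)),
        y ∈ CohB1.genLocus _ σ := by
    intro x
    obtain ⟨U, e, hxU, -, -, he⟩ := Amp.exists_isGenerator hN (V := ⊤) (x := x) trivial
    obtain ⟨j, G, ⟨s, hs⟩, hxG, hGU, -⟩ := Amp.exists_hasSec_le hL (x := x) (V := U) hxU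
    subst hs
    have hLj := M2.isInvertible_tensorPow hL.1 (j + 1)
    obtain ⟨n₀, h⟩ := Amp.exists_extend_genLocus hLj s N (M2.res N hGU e)
    refine ⟨j + 1, _, n₀, j.succ_pos, hxG, fun n hn y hy => ?_⟩
    obtain ⟨t', ht'⟩ := h n hn
    let σ := M1.secHom t' ≫ (M2.tensorIso (Iso.refl N) (M2.tensorPowPow L (j + 1) n)).hom
    refine ⟨σ, ?_⟩
    rw [Amp.genLocus_comp_iso, Amp.mem_genLocus_iff (M2.isInvertible_tensor hN (M2.isInvertible_tensorPow hLj n)),
      Amp.gval_secHom, ← Amp.gm_res (le_top : CohB1.genLocus _ s ≤ ⊤) hy, ht',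
      Amp.gen_tsec_iff hN (M2.isInvertible_tensorPow hLj n)]
    refine ⟨?_, Amp.gen_pw hLj hy _ n ?_⟩
    · rw [Amp.gm_res]
      exact Amp.gen_of_isGenerator he (hGU hy)
    · rw [Amp.gm_res]
      exact (Amp.mem_genLocus_iff hLj s).mp hy
  choose d G n₀ hd hxG hσ using key
  obtain ⟨S, hS⟩ := isCompact_univ.elim_finite_subcover (fun x => (G x : Set X)) (fun x => (G x).isOpen)
    fun x _ => Set.mem_iUnion.2 ⟨x, hxG x⟩
  let c := (∏ x ∈ S, d x) * (1 + ∑ x ∈ S, n₀ x)
  have hgen : ∀ y : X, ∃ σ : Coh.structureModule X ⟶ CohB1.tensorMod N (CohB1.tensorPow L c),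
      y ∈ CohB1.genLocus _ σ := by
    intro y
    obtain ⟨x, hxS, hy⟩ := Set.mem_iUnion₂.1 (hS (Set.mem_univ y))
    obtain ⟨n, hn, hc⟩ : ∃ n, n₀ x ≤ n ∧ c = d x * n := by
      refine ⟨(∏ z ∈ S.erase x, d z) * (1 + ∑ z ∈ S, n₀ z), ?_, ?_⟩
      · calc n₀ x ≤ 1 * (1 + ∑ z ∈ S, n₀ z) := by
              rw [Nat.one_mul]; exact le_add_left (Finset.single_le_sum (fun z _ => Nat.zero_le _) hxS)
          _ ≤ _ := Nat.mul_le_mul_right _ (Finset.prod_pos fun z _ => hd z)
      · rw [← Nat.mul_assoc, Finset.mul_prod_erase _ _ hxS]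
    rw [hc]
    exact hσ x n hn y hy
  have hM := M2.isInvertible_tensor hN (M2.isInvertible_tensorPow hL.1 c)
  refine ⟨c + 1, c.succ_pos, ?_⟩
  have hA := Amp.isAmple_tensor hM hL fun y => by
    obtain ⟨σ, hy⟩ := hgen y
    exact ⟨0, _, Amp.hasSec_of_iso (M2.tensorPowOne _).symm σ, hy⟩
  have hiso : Nonempty (CohB1.tensorMod L (CohB1.tensorMod N (CohB1.tensorPow L c)) ≅
      CohB1.tensorMod (CohB1.tensorPow L (c + 1)) N) := by
    have h : PicGrp.cls L hL.1 * (PicGrp.cls N hN * PicGrp.cls L hL.1 ^ c) =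
        PicGrp.cls L hL.1 ^ (c + 1) * PicGrp.cls N hN := by
      rw [pow_succ]
      ac_rfl
    have h2 := congrArg Subtype.val h
    simp only [PicGrp.mul_val, PicGrp.cls_val, PicGrp.cls_pow_val, PicGrp.mulCl_cl] at h2
    exact (PicGrp.cl_eq_cl_iff _ _).1 h2
  exact Amp.isAmple_of_iso hiso.some hA

/-- The class of a tensor product. -/
theorem cls_tensor {X : Scheme.{u}} {L N : X.Modules} (hL : PicF.IsInvertible L) (hN : PicF.IsInvertible N) :
    PicGrp.cls L hL * PicGrp.cls N hN = PicGrp.cls (CohB1.tensorMod L N) (M2.isInvertible_tensor hL hN) :=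
  Subtype.ext (by rw [PicGrp.mul_val, PicGrp.cls_val, PicGrp.cls_val, PicGrp.cls_val, PicGrp.mulCl_cl])

variable {k : Type u} [Field k] {A : Over (Spec (CommRingCat.of k))} [GrpObj A] [IsProper A.hom]
  [GeometricallyIntegral A.hom]

/-- Tensoring with an additive class preserves ampleness. -/
theorem isAmple_tensor_of_add {L N : A.left.Modules} (hL : CohB1.IsAmple L) (hN : PicF.IsInvertible N)
    (hadd : Add (PicGrp.cls N hN)) : CohB1.IsAmple (CohB1.tensorMod L N) := by
  obtain ⟨m, hm, hA⟩ := exists_isAmple_tensorPow_tensor hL hN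
  let n := 2 * m - 1
  obtain ⟨hf, hs⟩ := CubeField.isFinite_surjective_pow (A := A) CubeField.finH1 (n := n) (by omega)
  let i : A ⟶ A := (𝟙 A)⁻¹
  haveI : IsIso i.left := by
    have h : i ≫ i = 𝟙 A := by simp [i, GrpObj.comp_inv]
    haveI : IsIso i := ⟨i, h, h⟩
    exact inferInstanceAs (IsIso ((Over.forget _).map i))
  have hL' : CohB1.IsAmple ((Scheme.Modules.pullback i.left).obj L) := Amp.isAmple_pullback_of_isAffineHom _ hL
  set b := n * (n - 1) / 2
  have ha : n * (n + 1) / 2 = n * m := by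
    rw [show n + 1 = m * 2 by omega, ← Nat.mul_assoc, Nat.mul_div_cancel _ two_pos]
  have hpull : Nonempty ((Scheme.Modules.pullback (𝟙 A ^ n).left).obj (CohB1.tensorMod L N) ≅
      CohB1.tensorMod (CohB1.tensorPow (CohB1.tensorMod (CohB1.tensorPow L m) N) n)
        (CohB1.tensorPow ((Scheme.Modules.pullback i.left).obj L) b)) := by
    have h : pb (𝟙 A ^ n) (PicGrp.cls L hL.1 * PicGrp.cls N hN) =
        (PicGrp.cls L hL.1 ^ m * PicGrp.cls N hN) ^ n *
          PicGrp.cls _ (PicLoc.isInvertible_pullback i.left hL.1) ^ b := by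
      rw [map_mul, hadd.pow, pb_id, show pb (𝟙 A ^ n) (PicGrp.cls L hL.1) = CubeField.P L hL.1 (𝟙 A ^ n) from
          PicGrp.pullHom_cls _ _ _ _, CubeField.P_pow CubeField.finH1, CubeField.P_id, ha, _root_.mul_pow, ← pow_mul,
        Nat.mul_comm m n]
      rw [show CubeField.P L hL.1 (𝟙 A)⁻¹ = PicGrp.cls _ (PicLoc.isInvertible_pullback i.left hL.1) from rfl]
      ac_rfl
    rw [cls_tensor hL.1 hN, pb, PicGrp.pullHom_cls] at h
    replace h := congrArg Subtype.val h
    rw [PicGrp.cls_val, PicGrp.mul_val, PicGrp.cls_pow_val] at h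
    rw [show (PicGrp.cls L hL.1 ^ m * PicGrp.cls N hN) =
      PicGrp.cls (CohB1.tensorMod (CohB1.tensorPow L m) N) hA.1 from Subtype.ext (by
        rw [PicGrp.mul_val, PicGrp.cls_pow_val, PicGrp.cls_val, PicGrp.cls_val, PicGrp.mulCl_cl]),
      PicGrp.cls_pow_val, PicGrp.mulCl_cl] at h
    exact (PicGrp.cl_eq_cl_iff _ _).1 h
  haveI := hf
  haveI := hs
  haveI : CompactSpace A.left := hL.2.1
  refine AmpleFin18.isAmple_of_finite_surjective A.hom (M2.isInvertible_tensor hL.1 hN) (𝟙 A ^ n).left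
    (Amp.isAmple_of_iso hpull.some.symm ?_)
  have hP := (Amp.isAmple_tensorPow_iff hA.1 (show 0 < n by omega)).2 hA
  rcases Nat.eq_zero_or_pos b with hb | hb
  · refine Amp.isAmple_of_iso ?_ hP
    rw [hb]
    exact (M2.tensorRUnit _).symm
  · refine Amp.isAmple_tensor (M2.isInvertible_tensorPow hL'.1 b) hP fun y => ?_
    obtain ⟨-, -, hc⟩ := Amp.isAmple_iff.1 ((Amp.isAmple_tensorPow_iff hL'.1 hb).2 hL')
    obtain ⟨j, G, hG, hy, -⟩ := hc y
    exact ⟨j, G, hG, hy⟩

variable [IsAlgClosed k]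

/-- An additive class has degree zero on curves. -/
theorem degCl_eq_zero {L : A.left.Modules} (hL : CohB1.IsAmple L) {c : PicLoc.PicSet A.left} (hc : Add c)
    (C : Over (Spec (CommRingCat.of k))) [IsIntegral C.left] [IsProper C.hom]
    (hC : letI : C.left.Over (Spec (CommRingCat.of k)) := ⟨C.hom⟩; CurveCoh17.CurveLike k C.left)
    (g : C ⟶ A) :
    letI : C.left.Over (Spec (CommRingCat.of k)) := ⟨C.hom⟩
    TateTors22.degCl k C.left (pb g c) = 0 := by
  letI : C.left.Over (Spec (CommRingCat.of k)) := ⟨C.hom⟩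
  have hge : ∀ d : PicLoc.PicSet A.left, Add d →
      0 ≤ TateTors22.degCl k C.left (CubeField.P L hL.1 g) + TateTors22.degCl k C.left (pb g d) := by
    intro d hd
    obtain ⟨N, hN, rfl⟩ := PicGrp.exists_eq_cls d
    have hamp := isAmple_tensor_of_add hL hN hd
    have h := TateTors22.degCl_P_nonneg hamp C hC g
    rwa [show CubeField.P (CohB1.tensorMod L N) hamp.1 g = CubeField.P L hL.1 g * pb g (PicGrp.cls N hN) by
      rw [show CubeField.P L hL.1 g = pb g (PicGrp.cls L hL.1) from (PicGrp.pullHom_cls _ _ _ _).symm, ← map_mul,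
        cls_tensor hL.1 hN]
      exact (PicGrp.pullHom_cls _ _ _ _).symm, TateTors22.degCl_mul hC] at h
  let f : Additive (PicLoc.PicSet C.left) →+ ℤ :=
    AddMonoidHom.mk' (fun x => TateTors22.degCl k C.left (Additive.toMul x)) fun x y => TateTors22.degCl_mul hC _ _
  have hz : ∀ j : ℤ, TateTors22.degCl k C.left (pb g (c ^ j)) = j * TateTors22.degCl k C.left (pb g c) := by
    intro j
    rw [map_zpow]
    have := map_zsmul f j (Additive.ofMul (pb g c))
    rw [zsmul_eq_mul, Int.cast_id] at this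
    exact this
  set D := TateTors22.degCl k C.left (CubeField.P L hL.1 g)
  set e := TateTors22.degCl k C.left (pb g c)
  by_contra he
  have h1 := hge _ (hc.zpow (-(D + 1) * e))
  rw [hz] at h1
  have hD : 0 ≤ D := TateTors22.degCl_P_nonneg hL C hC g
  have hee : 1 ≤ e * e := mul_self_pos.2 he
  nlinarith [mul_le_mul_of_nonneg_left hee (show (0:ℤ) ≤ D + 1 by omega)]

end Groth.Agent.AlgEquiv22
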