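import Groth.Agent.Lib.AlgEquiv22.Basic
import Groth.Agent.Lib.CBC10.Apps
import Groth.Agent.Lib.CBC10.Local
import Groth.Agent.Lib.CBC10.Near
import Groth.Agent.Lib.FlatCx.Rank
import Groth.Agent.Lib.CubeField.Fin
import Groth.Agent.Lib.CohFound.ModulesInst
import Groth.Agent.Lib.KFlat.LpullPC
import Groth.Agent.Lib.DPerf.RelAmp
import Groth.Agent.Lib.AbRigid.Image

/-!
# The locus of trivial fibres of an invertible module is closed
-/

universe u

open CategoryTheory Limits MonoidalCategory CartesianMonoidalCategory AlgebraicGeometry TopologicalSpace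
open scoped MonObj GrpObj

set_option linter.style.haveILetI false
set_option backward.isDefEq.respectTransparency false

namespace Groth.Agent.AlgEquiv22

noncomputable local instance instLawAEC (Y : Scheme.{u}) : PicGrp.Law Y := M2.law Y

/-- Global sections of a module. -/
theorem exists_hom_ne_zero_iff {B : Scheme.{u}} [IsIntegral B] {M : B.Modules} (hM : PicF.IsInvertible M) :
    Nontrivial (Coh.HH B M 0) ↔
      ∃ σ : Coh.structureModule B ⟶ M, (CohB1.genLocus M σ : Set B).Nonempty := by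
  let e : Coh.HH B M 0 ≃+ Γ(M, (⊤ : B.Opens)) :=
    Sheaf.H.equiv₀ (Coh.toAb M) (CategoryTheory.Limits.isTerminalTop (α := B.Opens))
  rw [e.toEquiv.nontrivial_congr]
  constructor
  · intro h
    obtain ⟨s, hs⟩ := exists_ne (0 : Γ(M, (⊤ : B.Opens)))
    exact ⟨M1.secHom s, CubeField.genLocus_nonempty_of_ne_zero hM hs⟩
  · rintro ⟨σ, x, hx⟩
    refine ⟨Amp.gval σ, 0, fun h0 => ?_⟩
    have hg := (Amp.mem_genLocus_iff hM σ (x := x)).1 hx
    rw [h0] at hg
    obtain ⟨U, e', hxU, -, -, he'⟩ := Amp.exists_isGenerator hM (V := ⊤) (x := x) trivial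
    have hz : Amp.gm M x (U := ⊤) trivial (0 : Γ(M, (⊤ : B.Opens))) = 0 := map_zero _
    rw [hz] at hg
    obtain ⟨c, hc⟩ := hg.surjective (Amp.gm M x hxU e')
    have h1 : Amp.gm M x hxU e' = 0 := by rw [← hc]; exact smul_zero c
    have hE := Amp.gen_of_isGenerator he' hxU
    exact one_ne_zero (hE.injective (show (1 : B.presheaf.stalk x) • _ = (0 : B.presheaf.stalk x) • _ by
      rw [h1, smul_zero, smul_zero]))

variable {k : Type u} [Field k]

/-- A module with nonzero sections whose inverse has nonzero sections is trivial. -/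
theorem isTriv_iff_sections {B : Scheme.{u}} (p : B ⟶ Spec (CommRingCat.of k)) [IsProper p] [IsIntegral B]
    {M M' : B.Modules} (hM : PicF.IsInvertible M) (hM' : PicF.IsInvertible M')
    (h : Nonempty (CohB1.tensorMod M M' ≅ Coh.structureModule B)) :
    CubeField.IsTriv M ↔ Nontrivial (Coh.HH B M 0) ∧ Nontrivial (Coh.HH B M' 0) := by
  rw [exists_hom_ne_zero_iff hM, exists_hom_ne_zero_iff hM']
  constructor
  · rintro ⟨e⟩
    have hO : (CohB1.genLocus (Coh.structureModule B) (𝟙 (Coh.structureModule B)) : Set B).Nonempty :=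
      ⟨Classical.arbitrary B, (Amp.mem_genLocus_iff (PicLoc.isInvertible_structureModule B) _).2 (Amp.gen_one (U := ⊤) (Classical.arbitrary B) trivial)⟩
    have e' : M' ≅ Coh.structureModule B :=
      (M2.tensorLUnit M').symm ≪≫ M2.tensorIso e.symm (Iso.refl M') ≪≫ h.some
    exact ⟨⟨𝟙 _ ≫ e.inv, by rwa [show CohB1.genLocus M (𝟙 _ ≫ e.inv) = _ from Amp.genLocus_comp_iso e.symm (𝟙 _)]⟩,
      ⟨𝟙 _ ≫ e'.inv, by rwa [show CohB1.genLocus M' (𝟙 _ ≫ e'.inv) = _ from Amp.genLocus_comp_iso e'.symm (𝟙 _)]⟩⟩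
  · rintro ⟨⟨σ, hσ⟩, τ, hτ⟩
    have hU : SetLike.coe (CohB1.genLocus _ σ) = Set.univ := by
      rcases CubeField.genLocus_eq_bot_or_top_of_isTriv p (h : CubeField.IsTriv (CohB1.tensorMod M M'))
        (SecTwist.tmulHom σ τ) with hb | ht
      · exfalso
        rw [Amp.genLocus_tmulHom hM hM'] at hb
        obtain ⟨w, hw⟩ := nonempty_preirreducible_inter (CohB1.genLocus _ σ).isOpen (CohB1.genLocus _ τ).isOpen hσ hτ
        exact (hb.le hw : w ∈ (⊥ : Opens _))
      · rw [Amp.genLocus_tmulHom hM hM'] at ht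
        exact Set.eq_univ_of_forall fun w => ((ht.ge (Opens.mem_top w)) : w ∈ _ ⊓ _).1
    exact CubeField.nonempty_iso_of_genLocus_eq_univ hM σ hU

/-- The locus where the fibre has nonzero sections is closed. -/
theorem isClosed_nontrivial_fiber {X Y : Scheme.{u}} (f : X ⟶ Y) [IsProper f] [Flat f] [IsLocallyNoetherian Y]
    {L : X.Modules} (hL : PicF.IsInvertible L) :
    IsClosed {y : Y | Nontrivial (CohIII.fiberH f L y 0)} := by
  have hF : Coh.IsCoh L := CubeField.isCoh_of_isInvertible hL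
  haveI := hF.1
  have hfl : FlatMod.IsFlatOver f L := DPerf.isFlatOver_of_isFlat f (M := L) fun x =>
    KFlat.Sch.isFlat_of_isFinLocFree (M2.isFinLocFree_of_isInvertible hL) x
  rw [← isOpen_compl_iff, isOpen_iff_mem_nhds]
  intro y hy
  obtain ⟨U, hU, hyU, -⟩ := exists_isAffineOpen_mem_and_subset (X := Y) (x := y) (U := ⊤) trivial
  obtain ⟨P, hfin, hflat, -, -, hP⟩ := CBC10.exists_complexOn hF hfl hU
  haveI := hfin
  haveI := hflat
  haveI : IsNoetherianRing Γ(Y, U) := IsLocallyNoetherian.component_noetherian ⟨U, hU⟩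
  have hy' : Subsingleton (CohIII.fiberH f L y 0) := not_nontrivial_iff_subsingleton.1 hy
  have h0 : CohIII.dRank P (-((0 : ℕ) : ℤ)) (hU.primeIdealOf ⟨y, hyU⟩) = 0 :=
    (hP.fiberRank_eq hyU hF.1 0).symm.trans (CBC10.fiberRank_eq_zero_of_subsingleton hy')
  have hnear := hP.eventually_fiberRank_eq hF.1 hyU 0 (by
    filter_upwards [FlatCxLib.upperSemicontinuous_dRank P (-((0 : ℕ) : ℤ)) (hU.primeIdealOf ⟨y, hyU⟩) 1
      (show CohIII.dRank P _ _ < 1 by rw [h0]; exact Nat.one_pos)] with z hz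
    omega)
  filter_upwards [hnear, U.isOpen.mem_nhds hyU] with z hz hzU
  rw [CBC10.fiberRank_eq_zero_of_subsingleton hy'] at hz
  exact not_nontrivial_iff_subsingleton.2 (hP.subsingleton_fiberH_of_fiberRank_eq_zero hF.1 hzU hz)

variable [IsAlgClosed k] {A T : Over (Spec (CommRingCat.of k))} [IsProper A.hom] [GeometricallyIntegral A.hom]
  [LocallyOfFiniteType T.hom]

/-- The slice over a rational point is the fibre over the point. -/
theorem nontrivial_fiber_iff {L : (A ⊗ T).left.Modules} (hL : PicF.IsInvertible L)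
    (t : 𝟙_ (Over (Spec (CommRingCat.of k))) ⟶ T) :
    Nontrivial (CohIII.fiberH (snd A T).left L (CubeField.rpt t) 0) ↔
      Nontrivial (Coh.HH A.left ((Scheme.Modules.pullback (sl A t).left).obj L) 0) := by
  haveI : IsIntegral A.left := GeometricallyIntegral.isIntegral_of_subsingleton A.hom
  let g : Spec (CommRingCat.of k) ⟶ T.left := t.left
  have hg : g ≫ T.hom = 𝟙 _ := Over.w t
  have hxc : IsClosed ({CubeField.rpt t} : Set T.left) := by
    haveI : LocallyOfFiniteType (g ≫ T.hom) := by rw [hg]; infer_instance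
    haveI : LocallyOfFiniteType g := locallyOfFiniteType_of_comp g T.hom
    haveI : JacobsonSpace T.left := LocallyOfFiniteType.jacobsonSpace T.hom
    exact g.closePoints_subset_preimage_closedPoints (isClosed_discrete (α := Spec (CommRingCat.of k)) _)
  let x := CubeField.rpt t
  let r := residueFieldIsoBase T.hom x hxc
  have hgr : g = Spec.map r.hom ≫ T.left.fromSpecResidueField x := by
    refine ext_of_apply_closedPoint_eq T.hom hg ?_ ?_
    · rw [Category.assoc, ← SpecMap_residueFieldIsoBase_inv T.hom x hxc, ← Spec.map_comp, Iso.inv_hom_id, Spec.map_id]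
    · rw [Scheme.Hom.comp_apply, Scheme.fromSpecResidueField_apply]
      rfl
  have hs : (sl A t).left ≫ (snd A T).left = A.hom ≫ g := by
    rw [← Over.comp_left, lift_snd, Over.comp_left, Over.toUnit_left]
  have hpb : IsPullback (sl A t).left A.hom (snd A T).left g := by
    refine IsPullback.of_right ?_ hs (IsPullback.of_hasPullback A.hom T.hom)
    have h1 : (sl A t).left ≫ pullback.fst A.hom T.hom = 𝟙 A.left := congrArg CommaMorphism.left (lift_fst (𝟙 A) _)
    rw [h1, hg]
    exact IsPullback.of_horiz_isIso ⟨by rw [Category.comp_id]; exact Category.id_comp _⟩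
  haveI : IsIso (Spec.map r.hom) := inferInstance
  have hpb' : IsPullback (sl A t).left (A.hom ≫ Spec.map r.hom) (snd A T).left (T.left.fromSpecResidueField x) := by
    refine IsPullback.of_iso hpb (Iso.refl _) (Iso.refl _) (asIso (Spec.map r.hom)) (Iso.refl _) ?_ ?_ ?_ ?_
    · simp
    · simp
    · simp
    · simpa using hgr
  let φ : A.left ≅ (snd A T).left.fiber x := hpb'.isoIsPullback _ _ (IsPullback.of_hasPullback _ _)
  have hφ : φ.hom ≫ (snd A T).left.fiberι x = (sl A t).left := IsPullback.isoIsPullback_hom_fst _ _ _ _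
  haveI : Nonempty ↥((snd A T).left.fiber x) := ⟨φ.hom (Classical.arbitrary A.left)⟩
  haveI : IsIntegral ((snd A T).left.fiber x) := isIntegral_of_isOpenImmersion φ.inv
  have hFinv : PicF.IsInvertible (CohIII.fiberMod (snd A T).left L x) := PicLoc.isInvertible_pullback _ hL
  show Nontrivial (Coh.HH _ (CohIII.fiberMod (snd A T).left L x) 0) ↔ _
  rw [exists_hom_ne_zero_iff hFinv, exists_hom_ne_zero_iff (PicLoc.isInvertible_pullback _ hL)]
  constructor
  · rintro ⟨σ, z, hz⟩
    obtain ⟨w, rfl⟩ : ∃ w, φ.hom w = z := ⟨φ.inv z, by rw [← Scheme.Hom.comp_apply, φ.inv_hom_id]; rfl⟩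
    let i := (Scheme.Modules.pullbackComp φ.hom ((snd A T).left.fiberι x)).app L ≪≫
      (Scheme.Modules.pullbackCongr hφ).app L
    refine ⟨(PicLoc.pullbackStructureIso φ.hom).inv ≫ (Scheme.Modules.pullback φ.hom).map σ ≫ i.hom, w, ?_⟩
    rw [← Category.assoc, SetLike.mem_coe, Amp.genLocus_comp_iso]
    have hgl := Amp.genLocus_pullback φ.hom hFinv σ (PicLoc.pullbackStructureIso φ.hom).symm
    exact hgl.symm ▸ hz
  · rintro ⟨σ, z, hz⟩
    have hφ' : φ.inv ≫ (sl A t).left = (snd A T).left.fiberι x := by rw [← hφ, Iso.inv_hom_id_assoc]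
    let i := (Scheme.Modules.pullbackComp φ.inv (sl A t).left).app L ≪≫
      (Scheme.Modules.pullbackCongr hφ').app L
    obtain ⟨w, rfl⟩ : ∃ w, φ.inv w = z := ⟨φ.hom z, by rw [← Scheme.Hom.comp_apply, φ.hom_inv_id]; rfl⟩
    refine ⟨(PicLoc.pullbackStructureIso φ.inv).inv ≫ (Scheme.Modules.pullback φ.inv).map σ ≫ i.hom, w, ?_⟩
    rw [← Category.assoc, SetLike.mem_coe, Amp.genLocus_comp_iso]
    have hgl := Amp.genLocus_pullback φ.inv (PicLoc.isInvertible_pullback _ hL) σ (PicLoc.pullbackStructureIso φ.inv).symm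
    exact hgl.symm ▸ hz

/-- The points over which a class is trivial form a closed set. -/
theorem exists_isClosed_trivial [IsSeparated T.hom] (c : PicLoc.PicSet (A ⊗ T).left) :
    ∃ Z : Set T.left, IsClosed Z ∧
      ∀ t : 𝟙_ (Over (Spec (CommRingCat.of k))) ⟶ T, CubeField.rpt t ∈ Z ↔ pb (sl A t) c = 1 := by
  haveI : IsIntegral A.left := GeometricallyIntegral.isIntegral_of_subsingleton A.hom
  haveI : IsLocallyNoetherian T.left := LocallyOfFiniteType.isLocallyNoetherian T.hom
  haveI : IsProper (snd A T).left := inferInstanceAs (IsProper (pullback.snd A.hom T.hom))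
  haveI : Flat (snd A T).left := AbRigid.flat_snd_left A T
  obtain ⟨L, hL, rfl⟩ := PicGrp.exists_eq_cls c
  obtain ⟨D, hD, e⟩ := M2.exists_inverse hL
  refine ⟨{y | Nontrivial (CohIII.fiberH (snd A T).left L y 0)} ∩ {y | Nontrivial (CohIII.fiberH (snd A T).left D y 0)},
    (isClosed_nontrivial_fiber _ hL).inter (isClosed_nontrivial_fiber _ hD), fun t => ?_⟩
  rw [Set.mem_inter_iff, Set.mem_setOf_eq, Set.mem_setOf_eq, nontrivial_fiber_iff hL, nontrivial_fiber_iff hD,
    ← isTriv_iff _ hL]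
  exact (isTriv_iff_sections A.hom (PicLoc.isInvertible_pullback _ hL) (PicLoc.isInvertible_pullback _ hD)
    ⟨(M2.pullTensorIso (sl A t).left L D).symm ≪≫ (Scheme.Modules.pullback (sl A t).left).mapIso e.some ≪≫
      PicLoc.pullbackStructureIso (sl A t).left⟩).symm

end Groth.Agent.AlgEquiv22
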