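import Groth.Agent.Lib.CubeField.Simple
import Groth.Agent.Lib.AlgEquiv22.Closed
import Groth.Agent.Lib.AlgEquiv22.Ample
import Groth.Agent.Lib.TateTors22.Divisible

/-!
# Non-degeneracy of ample modules
-/

universe u

open CategoryTheory Limits MonoidalCategory CartesianMonoidalCategory AlgebraicGeometry TopologicalSpace
open scoped MonObj GrpObj
open Groth.Agent.CubeField

set_option linter.style.haveILetI false
set_option backward.isDefEq.respectTransparency false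

namespace Groth.Agent.AlgEquiv22

noncomputable local instance instLawAEN (Y : Scheme.{u}) : PicGrp.Law Y := M2.law Y

variable {k : Type u} [Field k] [IsAlgClosed k] {A : Over (Spec (CommRingCat.of k))} [GrpObj A]
  [IsProper A.hom] [GeometricallyIntegral A.hom]

/-- An infinite closed set stable under differences contains a nontrivial subgroup variety. -/
theorem exists_subgroup_of_infinite {S : Set A.left} (hSc : IsClosed S) (hSinf : S.Infinite)
    (hSmul : ∀ a b : 𝟙_ (Over (Spec (CommRingCat.of k))) ⟶ A, rpt a ∈ S → rpt b ∈ S → rpt (a * b⁻¹) ∈ S) :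
    ∃ (B : Over (Spec (CommRingCat.of k))) (_ : GrpObj B) (_ : GeometricallyIntegral B.hom) (i : B ⟶ A),
      IsMonHom i ∧ IsClosedImmersion i.left ∧ Set.range i.left ⊆ S ∧ ¬ Subsingleton B.left := by
  haveI := isCommMonObj_of_isProper_of_geometricallyIntegral A
  haveI : CompactSpace A.left := QuasiCompact.compactSpace_of_compactSpace A.hom
  haveI : JacobsonSpace A.left := LocallyOfFiniteType.jacobsonSpace A.hom
  haveI : IsLocallyNoetherian A.left := LocallyOfFiniteType.isLocallyNoetherian A.hom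
  haveI : AlgebraicGeometry.IsNoetherian A.left := {}
  obtain ⟨𝒮, h𝒮f, h𝒮c, h𝒮i, h𝒮eq⟩ := NoetherianSpace.exists_finite_set_isClosed_irreducible hSc
  obtain ⟨T₀, hT₀, hT₀inf⟩ : ∃ T ∈ 𝒮, T.Infinite := by
    by_contra hcon
    push Not at hcon
    exact hSinf (h𝒮eq ▸ h𝒮f.sUnion hcon)
  obtain ⟨t₁, ht₁, ht₁c⟩ := nonempty_inter_closedPoints (Z := T₀) hT₀inf.nonempty (h𝒮c T₀ hT₀).isLocallyClosed
  obtain ⟨t, rfl⟩ := exists_rpt ht₁c
  let T₁ := (trans₁ t⁻¹).left '' T₀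
  have hT₀S : T₀ ⊆ S := h𝒮eq ▸ Set.subset_sUnion_of_mem hT₀
  have hT₁S : T₁ ⊆ S := by
    rw [Set.image_subset_iff, ← (JacobsonSpace.closure_inter_closedPoints_eq_closure
      (h𝒮c T₀ hT₀).isLocallyClosed).trans (h𝒮c T₀ hT₀).closure_eq]
    refine closure_minimal (fun v ⟨hv, hvc⟩ => ?_) (hSc.preimage (Scheme.Hom.continuous _))
    obtain ⟨c, rfl⟩ := exists_rpt hvc
    show (trans₁ t⁻¹).left (rpt c) ∈ S
    rw [trans₁_rpt]
    exact hSmul c t (hT₀S hv) (hT₀S ht₁)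
  have hT₁i : IsIrreducible T₁ := (h𝒮i T₀ hT₀).image _ (Scheme.Hom.continuous _).continuousOn
  obtain ⟨T, ⟨hT𝒮, hT₁T⟩, hTmax⟩ := (h𝒮f.inter_of_left {T | T₁ ⊆ T}).exists_maximal (by
    obtain ⟨T, hT, hTT⟩ := isIrreducible_iff_sUnion_isClosed.1 hT₁i h𝒮f.toFinset
      (fun T hT => h𝒮c T (h𝒮f.mem_toFinset.1 hT)) (by rw [h𝒮f.coe_toFinset, ← h𝒮eq]; exact hT₁S)
    exact ⟨T, h𝒮f.mem_toFinset.1 hT, hTT⟩)
  have hTS : T ⊆ S := h𝒮eq ▸ Set.subset_sUnion_of_mem hT𝒮
  have hmaxT : ∀ W : Set A.left, IsIrreducible W → W ⊆ S → T ⊆ W → W ⊆ T := fun W hW hWS hTW => by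
    obtain ⟨T', hT', hWT⟩ := isIrreducible_iff_sUnion_isClosed.1 hW h𝒮f.toFinset
      (fun T hT => h𝒮c T (h𝒮f.mem_toFinset.1 hT)) (by rw [h𝒮f.coe_toFinset, ← h𝒮eq]; exact hWS)
    exact hWT.trans (hTmax ⟨h𝒮f.mem_toFinset.1 hT', (hT₁T.trans hTW).trans hWT⟩ (hTW.trans hWT))
  have h1T : rpt (1 : 𝟙_ (Over (Spec (CommRingCat.of k))) ⟶ A) ∈ T :=
    hT₁T ⟨rpt t, ht₁, by rw [trans₁_rpt, mul_inv_cancel]⟩
  have hTc : IsClosed T := h𝒮c T hT𝒮
  have hTdiv : ∀ a b : 𝟙_ (Over (Spec (CommRingCat.of k))) ⟶ A, rpt a ∈ T → rpt b ∈ T → rpt (a * b⁻¹) ∈ T := by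
    intro a b ha hb
    obtain ⟨B, hBi, hBp, hBG, i, hBc, hrange, -⟩ := exists_subvariety hTc (h𝒮i T hT𝒮)
    haveI := hBi
    haveI := hBp
    haveI := hBG
    haveI := hBc
    haveI : IsLocallyNoetherian B.left := LocallyOfFiniteType.isLocallyNoetherian B.hom
    haveI : IsIntegral (B ⊗ B).left :=
      GeometricallyIntegral.isIntegral_of_isLocallyNoetherian (pullback.fst B.hom B.hom)
    haveI : LocallyOfFiniteType (B ⊗ B).hom :=
      inferInstanceAs (LocallyOfFiniteType (pullback.fst B.hom B.hom ≫ B.hom))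
    haveI : JacobsonSpace (B ⊗ B).left := LocallyOfFiniteType.jacobsonSpace (B ⊗ B).hom
    let φ : B ⊗ B ⟶ A := (fst B B ≫ i) * (snd B B ≫ i)⁻¹
    have hmem : ∀ c : 𝟙_ (Over (Spec (CommRingCat.of k))) ⟶ B, rpt (c ≫ i) ∈ T := fun c => by
      rw [rpt_comp, ← hrange]; exact ⟨_, rfl⟩
    have hlift : ∀ c : 𝟙_ (Over (Spec (CommRingCat.of k))) ⟶ A, rpt c ∈ T → ∃ c', c' ≫ i = c :=
      fun c hc => exists_point_lift i c (hrange.ge hc)
    have hφS : Set.range φ.left ⊆ S := by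
      rintro _ ⟨w, rfl⟩
      have : closedPoints (B ⊗ B).left ⊆ φ.left ⁻¹' S := fun z hz => by
        obtain ⟨p, rfl⟩ := exists_rpt hz
        rw [Set.mem_preimage, ← rpt_comp, MonObj.comp_mul, GrpObj.comp_inv, ← Category.assoc, ← Category.assoc]
        exact hSmul _ _ (hTS (hmem _)) (hTS (hmem _))
      exact (closure_minimal this (hSc.preimage φ.left.continuous)) (by rw [closure_closedPoints]; trivial)
    obtain ⟨a', rfl⟩ := hlift a ha
    obtain ⟨b', rfl⟩ := hlift b hb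
    obtain ⟨o', ho⟩ := hlift 1 h1T
    have hsub : T ⊆ Set.range φ.left := by
      rintro _ hv
      obtain ⟨z, rfl⟩ := hrange.ge hv
      refine ⟨(lift (𝟙 B) (toUnit B ≫ o')).left z, ?_⟩
      rw [← Scheme.Hom.comp_apply, ← Over.comp_left, MonObj.comp_mul, GrpObj.comp_inv, lift_fst_assoc,
        lift_snd_assoc, Category.id_comp, Category.assoc, ho, MonObj.comp_one, inv_one, mul_one]
    have hirr : IsIrreducible (Set.range φ.left) := by
      rw [← Set.image_univ]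
      exact (IrreducibleSpace.isIrreducible_univ _).image _ φ.left.continuous.continuousOn
    refine hmaxT _ hirr hφS hsub ⟨rpt (lift a' b'), ?_⟩
    rw [← rpt_comp, MonObj.comp_mul, GrpObj.comp_inv, lift_fst_assoc, lift_snd_assoc]
  obtain ⟨B, hB, hBg, i, hi, hci, hrange⟩ := exists_subgroup_of_isClosed hTc (h𝒮i T hT𝒮) h1T hTdiv
  refine ⟨B, hB, hBg, i, hi, hci, hrange ▸ hTS, fun hs => hT₀inf ?_⟩
  have hTfin : T.Finite := hrange ▸ Set.finite_range _
  exact Set.Finite.of_finite_image (hTfin.subset hT₁T) ((trans₁ t⁻¹).left.homeomorph.injective.injOn)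

/-- The rational points fixing a class form a closed set. -/
theorem exists_isClosed_fixing (c : PicLoc.PicSet A.left) :
    ∃ Z : Set A.left, IsClosed Z ∧ ∀ a : 𝟙_ (Over (Spec (CommRingCat.of k))) ⟶ A,
      rpt a ∈ Z ↔ pb (𝟙 A * (toUnit A ≫ a)) c = c := by
  obtain ⟨Z, hZ, h⟩ := exists_isClosed_trivial (A := A) (T := A) (pb (fst A A * snd A A) c * (pb (fst A A) c)⁻¹)
  refine ⟨Z, hZ, fun a => ?_⟩
  rw [h, map_mul, map_inv, pb_pb, pb_pb, MonObj.comp_mul, lift_fst, lift_snd, pb_id, mul_inv_eq_one]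

/-- An ample module is fixed by finitely many translations only. -/
theorem finite_fixing {L : A.left.Modules} (hL : CohB1.IsAmple L) :
    {a : 𝟙_ (Over (Spec (CommRingCat.of k))) ⟶ A |
      pb (𝟙 A * (toUnit A ≫ a)) (PicGrp.cls L hL.1) = PicGrp.cls L hL.1}.Finite := by
  haveI := isCommMonObj_of_isProper_of_geometricallyIntegral A
  obtain ⟨Z, hZ, hmem⟩ := exists_isClosed_fixing (PicGrp.cls L hL.1)
  have hcomp : ∀ a b : 𝟙_ (Over (Spec (CommRingCat.of k))) ⟶ A,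
      (𝟙 A * (toUnit A ≫ a)) ≫ (𝟙 A * (toUnit A ≫ b)) = 𝟙 A * (toUnit A ≫ (a * b)) := fun a b => by
    rw [MonObj.comp_mul, Category.comp_id, comp_toUnit_assoc, mul_assoc, ← MonObj.comp_mul]
  have hmul : ∀ a b, rpt a ∈ Z → rpt b ∈ Z → rpt (a * b⁻¹) ∈ Z := by
    intro a b ha hb
    rw [hmem] at ha hb ⊢
    have hb' : pb (𝟙 A * (toUnit A ≫ b⁻¹)) (PicGrp.cls L hL.1) = PicGrp.cls L hL.1 := by
      conv_lhs => rw [← hb]
      rw [pb_pb, hcomp, inv_mul_cancel, MonObj.comp_one, _root_.mul_one, pb_id]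
    rw [← hcomp, ← pb_pb, hb', ha]
  by_contra hinf
  have hZinf : Z.Infinite := fun hf => hinf (Set.Finite.of_finite_image (hf.subset (by
    rintro _ ⟨a, ha, rfl⟩
    exact (hmem a).2 ha)) rpt_injective.injOn)
  obtain ⟨B, _, _, i, _, hci, hrange, hns⟩ := exists_subgroup_of_infinite hZ hZinf hmul
  haveI := hci
  haveI : IsProper B.hom := by rw [← Over.w i]; infer_instance
  haveI := isCommMonObj_of_isProper_of_geometricallyIntegral B
  have hLB : CohB1.IsAmple ((Scheme.Modules.pullback i.left).obj L) := Amp.isAmple_pullback_of_isAffineHom _ hL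
  have hpb : PicGrp.cls _ hLB.1 = pb i (PicGrp.cls L hL.1) := (PicGrp.pullHom_cls _ _ _ _).symm
  have hinv : Inv (PicGrp.cls _ hLB.1) := fun b => by
    have hb := (hmem (b ≫ i)).1 (by rw [rpt_comp]; exact hrange ⟨_, rfl⟩)
    rw [hpb, pb_pb]
    conv_rhs => rw [← hb]
    rw [pb_pb]
    congr 2
    rw [MonObj.mul_comp, MonObj.comp_mul, Category.id_comp, Category.comp_id, Category.assoc, comp_toUnit_assoc]
  have hne : 𝟙 B ≠ (1 : B ⟶ B) := fun h => hns ⟨fun x y => by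
    have hx : ∀ z : B.left, z = (η[B]).left ((toUnit B).left z) := fun z => by
      have h1 : (𝟙 B : B ⟶ B).left z = (1 : B ⟶ B).left z := by rw [h]
      rw [Hom.one_def, Over.comp_left, Scheme.Hom.comp_apply] at h1
      exact h1
    rw [hx x, hx y]
    exact congrArg _ (Subsingleton.elim (α := Spec (CommRingCat.of k)) _ _)⟩
  obtain ⟨C, j, iC, pC, hC, hpos⟩ := TateTors22.exists_curve_deg_pos (𝟙 B) hne hLB
  haveI := iC
  haveI := pC
  have h0 := degCl_eq_zero hLB hinv.add C hC (j ≫ 𝟙 B)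
  rw [pb, PicGrp.pullHom_cls, TateTors22.degCl_cls] at h0
  exact hpos.ne' h0

end Groth.Agent.AlgEquiv22
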