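import Groth.Agent.Lib.CubeField.SeesawProd
import Groth.Agent.Lib.CubeField.Square
import Groth.Agent.Lib.CubeField.Simple
import Groth.Agent.Lib.CubeField.FinInst
import Groth.Prelude.Def_Pic13
import Groth.Agent.Lib.PicDesc21.Classes
import Mathlib.AlgebraicGeometry.Morphisms.Finite

/-!
# Classes algebraically equivalent to zero on an abelian variety are translation invariant
-/

universe u

open CategoryTheory Limits MonoidalCategory CartesianMonoidalCategory AlgebraicGeometry TopologicalSpace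
open scoped MonObj GrpObj

set_option linter.style.haveILetI false
set_option backward.isDefEq.respectTransparency false

namespace Groth.Agent.AlgEquiv22

noncomputable local instance instLawAE (Y : Scheme.{u}) : PicGrp.Law Y := M2.law Y

variable {k : Type u} [Field k] {A : Over (Spec (CommRingCat.of k))}

/-- Pullback of classes. -/
noncomputable abbrev pb {V W : Over (Spec (CommRingCat.of k))} (f : V ⟶ W) :
    PicLoc.PicSet W.left →* PicLoc.PicSet V.left :=
  PicGrp.pullHom f.left (M2.pullMul _)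

theorem pb_pb {U V W : Over (Spec (CommRingCat.of k))} (g : U ⟶ V) (f : V ⟶ W) (c : PicLoc.PicSet W.left) :
    pb g (pb f c) = pb (g ≫ f) c := by
  apply Subtype.ext
  rw [pb, pb, pb, PicGrp.pullHom_apply_val, PicGrp.pullHom_apply_val, PicGrp.pullHom_apply_val]
  exact (PicDesc21.pullCl_pullCl _ _ _).trans (by rw [Over.comp_left])

theorem point_eq_one (c : PicLoc.PicSet (𝟙_ (Over (Spec (CommRingCat.of k)))).left) : c = 1 := by
  obtain ⟨L, hL, rfl⟩ := PicGrp.exists_eq_cls c
  exact (PicGrp.cls_eq_one_iff _).2 (CubeField.nonempty_trivial_field _ hL)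

theorem pb_const {V W : Over (Spec (CommRingCat.of k))} (p : 𝟙_ (Over (Spec (CommRingCat.of k))) ⟶ W)
    (c : PicLoc.PicSet W.left) : pb (toUnit V ≫ p) c = 1 := by
  rw [← pb_pb, point_eq_one (pb p c), map_one]

theorem pb_id {W : Over (Spec (CommRingCat.of k))} (c : PicLoc.PicSet W.left) : pb (𝟙 W) c = c := by
  apply Subtype.ext
  rw [pb, PicGrp.pullHom_apply_val, Over.id_left]
  exact PicLoc.pullCl_id _

theorem isTriv_iff {V W : Over (Spec (CommRingCat.of k))} (s : V ⟶ W) {N : W.left.Modules}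
    (hN : PicF.IsInvertible N) :
    CubeField.IsTriv ((Scheme.Modules.pullback s.left).obj N) ↔ pb s (PicGrp.cls N hN) = 1 := by
  rw [pb, PicGrp.pullHom_cls, PicGrp.cls_eq_one_iff]
  rfl

variable [GrpObj A]

/-- Translation invariance of a class. -/
def Inv (c : PicLoc.PicSet A.left) : Prop :=
  ∀ a : 𝟙_ (Over (Spec (CommRingCat.of k))) ⟶ A, pb (𝟙 A * (toUnit A ≫ a)) c = c

/-- Additivity of a class. -/
def Add (c : PicLoc.PicSet A.left) : Prop :=
  ∀ ⦃V : Over (Spec (CommRingCat.of k))⦄ (f g : V ⟶ A), pb (f * g) c = pb f c * pb g c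

theorem Inv.mul {c d : PicLoc.PicSet A.left} (hc : Inv c) (hd : Inv d) : Inv (c * d) := fun a => by
  rw [map_mul, hc a, hd a]

theorem Inv.inv {c : PicLoc.PicSet A.left} (hc : Inv c) : Inv c⁻¹ := fun a => by rw [map_inv, hc a]

theorem inv_unit : Inv (1 : PicLoc.PicSet A.left) := fun _ => map_one _

theorem Add.one {c : PicLoc.PicSet A.left} (hc : Add c) {V : Over (Spec (CommRingCat.of k))} :
    pb (1 : V ⟶ A) c = 1 := by
  have h := hc (1 : V ⟶ A) 1
  rw [_root_.mul_one] at h
  exact left_eq_mul.1 h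

theorem Add.pow {c : PicLoc.PicSet A.left} (hc : Add c) {V : Over (Spec (CommRingCat.of k))} (f : V ⟶ A) :
    ∀ n : ℕ, pb (f ^ n) c = pb f c ^ n
  | 0 => by rw [pow_zero, pow_zero, hc.one]
  | n + 1 => by rw [pow_succ, pow_succ, hc, hc.pow f n]

theorem Add.inv' {c : PicLoc.PicSet A.left} (hc : Add c) {V : Over (Spec (CommRingCat.of k))} (f : V ⟶ A) :
    pb f⁻¹ c = (pb f c)⁻¹ := by
  refine eq_inv_of_mul_eq_one_left ?_
  rw [← hc, inv_mul_cancel, hc.one]

theorem Add.toInv {c : PicLoc.PicSet A.left} (hc : Add c) : Inv c := fun a => by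
  rw [hc, pb_const, _root_.mul_one, pb_id]

theorem Add.zpow {c : PicLoc.PicSet A.left} (hc : Add c) (j : ℤ) : Add (c ^ j) := fun V f g => by
  rw [map_zpow, map_zpow, map_zpow, hc, mul_zpow]

variable [IsProper A.hom] [GeometricallyIntegral A.hom]

/-- A translation invariant class is additive. -/
theorem Inv.add [IsAlgClosed k] {c : PicLoc.PicSet A.left} (hc : Inv c) : Add c := by
  let M := pb (fst A A * snd A A) c * (pb (fst A A) c * pb (snd A A) c)⁻¹
  have key : ∀ {V : Over (Spec (CommRingCat.of k))} (s : V ⟶ A ⊗ A) (f g : V ⟶ A),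
      s ≫ fst A A = f → s ≫ snd A A = g → pb s M = pb (f * g) c * (pb f c * pb g c)⁻¹ := by
    intro V s f g hf hg
    simp only [M, map_mul, map_inv, pb_pb, MonObj.comp_mul, hf, hg]
  have hM : M = 1 := by
    obtain ⟨N, hN, hMN⟩ := PicGrp.exists_eq_cls M
    rw [hMN, PicGrp.cls_eq_one_iff]
    refine CubeField.isTriv_of_point_slices (1 : 𝟙_ _ ⟶ A) CubeField.finH1 N hN (fun t => ?_) ?_
    · rw [isTriv_iff _ hN, ← hMN, key _ (𝟙 A) (toUnit A ≫ t) (lift_fst _ _) (lift_snd _ _), hc t, pb_const, pb_id,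
        _root_.mul_one, mul_inv_cancel]
    · rw [isTriv_iff _ hN, ← hMN, key _ (toUnit A ≫ 1) (𝟙 A) (lift_fst _ _) (lift_snd _ _), pb_const,
        MonObj.comp_one, _root_.one_mul, _root_.one_mul, mul_inv_cancel]
  intro V f g
  have h := key (lift f g) f g (lift_fst _ _) (lift_snd _ _)
  rw [hM, map_one, eq_comm, mul_inv_eq_one] at h
  exact h

/-- The slice at a point. -/
noncomputable abbrev sl (A : Over (Spec (CommRingCat.of k))) {T : Over (Spec (CommRingCat.of k))}
    (t : 𝟙_ (Over (Spec (CommRingCat.of k))) ⟶ T) : A ⟶ A ⊗ T :=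
  lift (𝟙 A) (toUnit A ≫ t)

/-- In a family over an integral base the difference of two members is translation invariant. -/
theorem inv_div_of_integral {T : Over (Spec (CommRingCat.of k))} [LocallyOfFiniteType T.hom] [QuasiCompact T.hom]
    [GeometricallyIntegral T.hom] (M : PicLoc.PicSet (A ⊗ T).left)
    (t t' : 𝟙_ (Over (Spec (CommRingCat.of k))) ⟶ T) : Inv (pb (sl A t) M * (pb (sl A t') M)⁻¹) := by
  haveI := CubeField.geometricallyConnected_of_irreducible A.hom
  let F : ∀ {V : Over (Spec (CommRingCat.of k))}, (V ⟶ A) → (V ⟶ T) → PicLoc.PicSet V.left :=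
    fun {V} f h => pb (lift f h) M * (pb (lift f (toUnit V ≫ t')) M)⁻¹
  have hF : ∀ {U V : Over (Spec (CommRingCat.of k))} (s : U ⟶ V) (f : V ⟶ A) (h : V ⟶ T),
      pb s (F f h) = F (s ≫ f) (s ≫ h) := by
    intro U V s f h
    simp only [F, map_mul, map_inv, pb_pb, comp_lift, comp_toUnit_assoc]
  have hF0 : ∀ {V : Over (Spec (CommRingCat.of k))} (f : V ⟶ A), F f (toUnit V ≫ t') = 1 := fun f =>
    mul_inv_cancel _
  have hFc : ∀ {V : Over (Spec (CommRingCat.of k))} (a : 𝟙_ (Over (Spec (CommRingCat.of k))) ⟶ A)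
      (s : 𝟙_ (Over (Spec (CommRingCat.of k))) ⟶ T), F (toUnit V ≫ a) (toUnit V ≫ s) = 1 := by
    intro V a s
    rw [← hF, point_eq_one (F a s), map_one]
  let p₁ : A ⊗ A ⊗ T ⟶ A := fst _ _
  let p₂ : A ⊗ A ⊗ T ⟶ A := snd _ _ ≫ fst _ _
  let p₃ : A ⊗ A ⊗ T ⟶ T := snd _ _ ≫ snd _ _
  let G : PicLoc.PicSet (A ⊗ A ⊗ T).left := F (p₁ * p₂) p₃ * F 1 p₃ * (F p₁ p₃ * F p₂ p₃)⁻¹
  have key : ∀ {V : Over (Spec (CommRingCat.of k))} (s : V ⟶ A ⊗ A ⊗ T) (f g : V ⟶ A) (h : V ⟶ T),
      s ≫ p₁ = f → s ≫ p₂ = g → s ≫ p₃ = h →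
        pb s G = F (f * g) h * F 1 h * (F f h * F g h)⁻¹ := by
    intro V s f g h hf hg hh
    simp only [G, map_mul, map_inv, hF, MonObj.comp_mul, MonObj.comp_one, hf, hg, hh]
  have hG : G = 1 := by
    obtain ⟨N, hN, hGN⟩ := PicGrp.exists_eq_cls G
    rw [hGN, PicGrp.cls_eq_one_iff]
    refine CubeField.isTriv_cube CubeField.finH1 A A T 1 1 t' N hN ?_ ?_ ?_
    · rw [isTriv_iff _ hN, ← hGN, key _ 1 (fst A T) (snd A T) (by simp [p₁]) (by simp [p₂]) (by simp [p₃]),
        _root_.one_mul, _root_.mul_comm (F 1 (snd A T)), mul_inv_cancel]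
    · rw [isTriv_iff _ hN, ← hGN, key _ (fst A T) 1 (snd A T) (by simp [p₁]) (by simp [p₂]) (by simp [p₃]),
        _root_.mul_one, mul_inv_cancel]
    · rw [isTriv_iff _ hN, ← hGN, key _ (fst A A) (snd A A) (toUnit _ ≫ t') (by simp [p₁]) (by simp [p₂])
        (by simp [p₃]), hF0, hF0, hF0, hF0, _root_.one_mul, _root_.one_mul, _root_.inv_one]
  intro a
  have e : ∀ f : A ⟶ A, F f (toUnit A ≫ t) = pb f (F (𝟙 A) (toUnit A ≫ t)) := fun f => by
    rw [hF, Category.comp_id, comp_toUnit_assoc]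
  have h := key (lift (𝟙 A) (lift (toUnit A ≫ a) (toUnit A ≫ t))) (𝟙 A) (toUnit A ≫ a) (toUnit A ≫ t)
    (by simp [p₁]) (by simp [p₂]) (by simp [p₃])
  rw [hG, map_one, show (1 : A ⟶ A) = toUnit A ≫ 1 from (MonObj.comp_one _).symm, hFc, hFc, _root_.mul_one,
    _root_.mul_one, eq_comm, mul_inv_eq_one, e (𝟙 A * (toUnit A ≫ a))] at h
  exact h

/-- In a connected family the difference of two members is translation invariant. -/
theorem inv_div_of_connected [IsAlgClosed k] {T : Over (Spec (CommRingCat.of k))} [LocallyOfFiniteType T.hom]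
    [QuasiCompact T.hom] [ConnectedSpace T.left] (M : PicLoc.PicSet (A ⊗ T).left)
    (t t₀ : 𝟙_ (Over (Spec (CommRingCat.of k))) ⟶ T) : Inv (pb (sl A t) M * (pb (sl A t₀) M)⁻¹) := by
  haveI : IsLocallyNoetherian T.left := LocallyOfFiniteType.isLocallyNoetherian T.hom
  haveI : CompactSpace T.left := QuasiCompact.compactSpace_of_compactSpace T.hom
  haveI : IsNoetherian T.left := {}
  haveI : JacobsonSpace T.left := LocallyOfFiniteType.jacobsonSpace T.hom
  let Q : (𝟙_ (Over (Spec (CommRingCat.of k))) ⟶ T) → Prop := fun p => Inv (pb (sl A p) M * (pb (sl A t₀) M)⁻¹)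
  have hcomp : ∀ Z ∈ irreducibleComponents T.left, ∀ p q : 𝟙_ (Over (Spec (CommRingCat.of k))) ⟶ T,
      CubeField.rpt p ∈ Z → CubeField.rpt q ∈ Z → Q q → Q p := by
    intro Z hZ p q hp hq hQ
    have hZc := isClosed_of_mem_irreducibleComponents Z hZ
    let I := Scheme.IdealSheafData.vanishingIdeal (⟨Z, hZc⟩ : Closeds T.left)
    haveI : AlgebraicGeometry.IsReduced I.subscheme := RedSepLib.isReduced_vanishingIdeal_subscheme _
    have hrange : Set.range I.subschemeι = Z := by
      rw [Scheme.IdealSheafData.range_subschemeι]; simp [I]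
    haveI : IrreducibleSpace I.subscheme := by
      have hgen := hZ.1.closure_genericPoint hZc
      obtain ⟨x', hx'⟩ := hrange.ge (hgen.le (subset_closure (Set.mem_singleton hZ.1.genericPoint)))
      refine irreducibleSpace_def _ |>.2 ?_
      have h1 : IsGenericPoint x' (Set.univ : Set I.subscheme) := by
        refine Set.eq_univ_of_forall fun y => ?_
        rw [← specializes_iff_mem_closure, ← I.subschemeι.isEmbedding.isInducing.specializes_iff, hx',
          specializes_iff_mem_closure, hgen, ← hrange]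
        exact ⟨y, rfl⟩
      exact h1.isIrreducible
    haveI : IsIntegral I.subscheme := isIntegral_of_irreducibleSpace_of_isReduced _
    let C : Over (Spec (CommRingCat.of k)) := Over.mk (I.subschemeι ≫ T.hom)
    haveI : LocallyOfFiniteType C.hom := inferInstanceAs (LocallyOfFiniteType (I.subschemeι ≫ T.hom))
    haveI : QuasiCompact C.hom := inferInstanceAs (QuasiCompact (I.subschemeι ≫ T.hom))
    haveI : GeometricallyIntegral C.hom :=
      CubeField.geometricallyIntegral_of_isIntegral (X := I.subscheme) _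
    let i : C ⟶ T := Over.homMk I.subschemeι rfl
    have hlift : ∀ r : 𝟙_ (Over (Spec (CommRingCat.of k))) ⟶ T, CubeField.rpt r ∈ Z →
        ∃ r' : 𝟙_ (Over (Spec (CommRingCat.of k))) ⟶ C, r' ≫ i = r := by
      intro r hr
      obtain ⟨z, hz⟩ := hrange.ge hr
      have hrc : IsClosed ({CubeField.rpt r} : Set T.left) := by
        haveI : LocallyOfFiniteType (r.left ≫ T.hom) := by
          rw [Over.w]; exact inferInstanceAs (LocallyOfFiniteType (𝟙 (Spec (CommRingCat.of k))))
        haveI : LocallyOfFiniteType r.left := locallyOfFiniteType_of_comp r.left T.hom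
        exact r.left.closePoints_subset_preimage_closedPoints (isClosed_discrete (α := Spec (CommRingCat.of k)) _)
      have hzc : IsClosed ({z} : Set C.left) := by
        have h := hrc.preimage I.subschemeι.continuous
        rwa [show I.subschemeι ⁻¹' {CubeField.rpt r} = {z} from Set.ext fun w =>
          ⟨fun hw => I.subschemeι.isEmbedding.injective (hw.trans hz.symm), fun hw => (congrArg _ hw).trans hz⟩] at h
      obtain ⟨r', hr'⟩ := CubeField.exists_rpt (X := C) hzc
      exact ⟨r', CubeField.rpt_injective (X := T) (by rw [CubeField.rpt_comp, hr']; exact hz)⟩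
    obtain ⟨p', rfl⟩ := hlift p hp
    obtain ⟨q', rfl⟩ := hlift q hq
    have h := inv_div_of_integral (pb (A ◁ i) M) p' q'
    have e : ∀ r : 𝟙_ (Over (Spec (CommRingCat.of k))) ⟶ C, sl A r ≫ (A ◁ i) = sl A (r ≫ i) := fun r => by
      simp [sl]
    rw [pb_pb, pb_pb, e, e] at h
    have h2 := h.mul hQ
    rwa [_root_.mul_assoc, inv_mul_cancel_left] at h2
  have hex : ∀ S : Set T.left, IsClosed S → S.Nonempty →
      ∃ p : 𝟙_ (Over (Spec (CommRingCat.of k))) ⟶ T, CubeField.rpt p ∈ S := by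
    intro S hS hne
    obtain ⟨x, hxS, hx⟩ := nonempty_inter_closedPoints hne hS.isLocallyClosed
    obtain ⟨p, rfl⟩ := CubeField.exists_rpt (X := T) hx
    exact ⟨p, hxS⟩
  let good : Set (Set T.left) :=
    {Z | Z ∈ irreducibleComponents T.left ∧ ∀ p, CubeField.rpt p ∈ Z → Q p}
  have hfin := NoetherianSpace.finite_irreducibleComponents (α := T.left)
  have hgc : IsClosed (⋃₀ good) := by
    rw [Set.sUnion_eq_biUnion]
    exact (hfin.subset fun Z hZ => hZ.1).isClosed_biUnion fun Z hZ => isClosed_of_mem_irreducibleComponents Z hZ.1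
  have hbc : IsClosed (⋃₀ (irreducibleComponents T.left \ good)) := by
    rw [Set.sUnion_eq_biUnion]
    exact (hfin.subset fun Z hZ => hZ.1).isClosed_biUnion fun Z hZ => isClosed_of_mem_irreducibleComponents Z hZ.1
  have hcov : ∀ x : T.left, x ∈ ⋃₀ good ∨ x ∈ ⋃₀ (irreducibleComponents T.left \ good) := fun x => by
    by_cases h : irreducibleComponent x ∈ good
    · exact Or.inl ⟨_, h, mem_irreducibleComponent⟩
    · exact Or.inr ⟨_, ⟨irreducibleComponent_mem_irreducibleComponents x, h⟩, mem_irreducibleComponent⟩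
  have hdisj : ⋃₀ good ∩ ⋃₀ (irreducibleComponents T.left \ good) = ∅ := by
    by_contra h
    obtain ⟨p, ⟨Z, hZ, hpZ⟩, W, ⟨hW, hWg⟩, hpW⟩ :=
      hex _ (hgc.inter hbc) (Set.nonempty_iff_ne_empty.2 h)
    exact hWg ⟨hW, fun r hr => hcomp W hW r p hr hpW (hZ.2 p hpZ)⟩
  have hclopen : IsClopen (⋃₀ good) := by
    refine ⟨hgc, ?_⟩
    rw [show ⋃₀ good = (⋃₀ (irreducibleComponents T.left \ good))ᶜ from Set.ext fun x =>
      ⟨fun hx hx' => (hdisj.le ⟨hx, hx'⟩ : x ∈ (∅ : Set T.left)), fun hx => (hcov x).resolve_right hx⟩]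
    exact hbc.isOpen_compl
  have ht₀ : CubeField.rpt t₀ ∈ ⋃₀ good :=
    ⟨irreducibleComponent (CubeField.rpt t₀), ⟨irreducibleComponent_mem_irreducibleComponents _, fun r hr =>
      hcomp _ (irreducibleComponent_mem_irreducibleComponents _) r t₀ hr mem_irreducibleComponent (by
        show Inv _
        rw [mul_inv_cancel]
        exact inv_unit)⟩, mem_irreducibleComponent⟩
  obtain ⟨Z, hZ, htZ⟩ := (hclopen.eq_univ ⟨_, ht₀⟩).ge (Set.mem_univ (CubeField.rpt t))
  exact hZ.2 t htZ

/-- Algebraic equivalence to zero implies translation invariance. -/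
theorem inv_of_isAlgEquivZero [IsAlgClosed k] {L : A.left.Modules} (hL : PicF.IsInvertible L)
    (h : letI : A.left.Over (Spec (CommRingCat.of k)) := ⟨A.hom⟩; Pic13.IsAlgEquivZero k A.left L) :
    Inv (PicGrp.cls L hL) := by
  letI : A.left.Over (Spec (CommRingCat.of k)) := ⟨A.hom⟩
  obtain ⟨T, q, hc, hl, hq, M, hM, t, t₀, ht, ht₀, ⟨e⟩, ⟨e₀⟩⟩ := h
  let T' : Over (Spec (CommRingCat.of k)) := Over.mk q
  haveI : ConnectedSpace T'.left := hc
  haveI : LocallyOfFiniteType T'.hom := hl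
  haveI : QuasiCompact T'.hom := hq
  let p : 𝟙_ (Over (Spec (CommRingCat.of k))) ⟶ T' := Over.homMk t (by exact ht)
  let p₀ : 𝟙_ (Over (Spec (CommRingCat.of k))) ⟶ T' := Over.homMk t₀ (by exact ht₀)
  have es : ∀ (s : Spec (CommRingCat.of k) ⟶ T) (hs : s ≫ q = 𝟙 _),
      Pic13.sliceAt k A.left q s hs = (sl A (T := T') (Over.homMk s (by exact hs))).left := fun s hs => by
    apply pullback.hom_ext
    · exact (pullback.lift_fst _ _ _).trans (congrArg CommaMorphism.left (lift_fst (𝟙 A) _)).symm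
    · exact (pullback.lift_snd _ _ _).trans ((congrArg CommaMorphism.left
        (lift_snd (𝟙 A) (toUnit A ≫ Over.homMk (U := 𝟙_ (Over (Spec (CommRingCat.of k)))) (V := T') s (by exact hs)))).trans
        (show (toUnit A).left ≫ s = A.hom ≫ s by rw [Over.toUnit_left])).symm
  have h1 := inv_div_of_connected (T := T') (A := A) (PicGrp.cls (Y := (A ⊗ T').left) M hM) p p₀
  rw [pb, pb, PicGrp.pullHom_cls, PicGrp.pullHom_cls] at h1
  have e1 : PicGrp.cls ((Scheme.Modules.pullback (sl A p).left).obj M) (PicLoc.isInvertible_pullback _ hM) =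
      PicGrp.cls L hL :=
    (PicGrp.cls_eq_cls_iff _ _).2 ⟨((Scheme.Modules.pullbackCongr (es t ht)).app M).symm ≪≫ e⟩
  have e2 : PicGrp.cls ((Scheme.Modules.pullback (sl A p₀).left).obj M) (PicLoc.isInvertible_pullback _ hM) = 1 :=
    (PicGrp.cls_eq_one_iff _).2 ⟨((Scheme.Modules.pullbackCongr (es t₀ ht₀)).app M).symm ≪≫ e₀⟩
  rw [e1, e2, _root_.inv_one, _root_.mul_one] at h1
  exact h1

end Groth.Agent.AlgEquiv22
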